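import Cfsg.Agent.H844.Fpf.RowsB
import Cfsg.Agent.BpSevenCo.Conj

/-!
# Sporadic rows of S4228: Co1 (helper844)
-/

set_option autoImplicit false

namespace Cfsg.Agent.H844.Fpf

open Subgroup Cfsg Cfsg.Agent Cfsg.Agent.H80.Fpf

theorem co1_7 : ¬ May 7 Spor.Co1 := by
  have hfin : Finite Spor.Co1 := BpSevenCo.Conj.finite_co1
  exact not_may_of_comm (by norm_num) (by norm_num) BpSevenCo.Conj.comm_xy BpSevenCo.Conj.orderOf_x
    BpSevenCo.Conj.orderOf_y BpSevenCo.Conj.y_notMem

theorem row_co1 {K : Type*} [Group K] [Finite K] [IsSimpleGroup K] (h : Spor.IsoCo1 K) : Row K :=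
  row_by (NotCT.Orders.co1 h) 13 23 [2, 3, 5, 7, 11, 13, 23] [3, 5, 7, 11] (by decide +kernel) 21 (by decide +kernel)
    (by decide) (by decide)
    (by
      intro r hr
      simp only [List.mem_cons, List.not_mem_nil, or_false] at hr
      rcases hr with rfl | rfl | rfl | rfl
      · exact not_may_of_notAb (by norm_num) (by norm_num) (H800.Sp.NotAbRows.co1_3 h)
      · exact not_may_of_notAb (by norm_num) (by norm_num) (H800.Sp.NotAbRows.co1_5 h)
      · obtain ⟨e⟩ := h
        exact fun hM => co1_7 (hM.of_equiv e)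
      · exact co1_11 h)

end Cfsg.Agent.H844.Fpf
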