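import Cfsg.Agent.H844.Fpf.RowsB
import Cfsg.Agent.GH.Cov.InstJ3
import Cfsg.Agent.J3.Simple
import Cfsg.Agent.S2041

/-!
# Sporadic rows of S4228: J3 (helper844)

`2^4` (the four involutions of `GH.Cov.InstJ3`) is normalised by the element `x` of order 5, the multiplier is 3.
-/

set_option autoImplicit false
set_option maxRecDepth 100000

namespace Cfsg.Agent.H844.Fpf.JThree

open Subgroup Cfsg Cfsg.Agent Cfsg.Agent.H80.Fpf Cfsg.Agent.H844.Fpf
open Cfsg.Spor Cfsg.Agent.J3.Core Cfsg.Agent.J3.Tab Cfsg.Agent.J3.Mono Cfsg.Agent.J3.Elts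
open Cfsg.Agent.Lib.BitSet Cfsg.Agent.J3.Order Cfsg.Agent.GH.Cov.Sq Cfsg.Agent.GH.Cov.Basis
open Cfsg.Agent.GH.Cov.InstJ3

/-- the word of the element of order 5 -/
def xw : List ℕ := [1, 6, 2, 0, 6, 3, 3, 6, 0]

/-- its table -/
def xT : List ℕ := evT xw

/-- images of the four involutions -/
def im : Fin 4 → ℕ := ![4, 11, 10, 2]

theorem chk_xw : xw.all (fun k => Nat.blt k 8) = true := by decide +kernel

theorem chk_x5 : cols (compT xT (compT xT (compT xT (compT xT xT)))) = cols (tS 0) := by decide +kernel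

theorem chk_xe : ∀ i : Fin 4, cols (compT xT (eT i)) = cols (compT (wT (im i)) xT) := by decide +kernel

/-- `word4 e 5` is not central: it does not commute with `A` -/
theorem chk_ne5 : ∃ z : F9, (cols (compT (wT 5) (tA (1, 0)))).getD (idx z) 0 ≠
    (cols (compT (tA (1, 0)) (wT 5))).getD (idx z) 0 := by
  decide +kernel

section

variable {F : Type} [Field F] {ω : F} (G : Gens F ω)

/-- the element of order 5 -/
def x : threeJ3 F ω := ev G xw

theorem rep_x (H : Good ω) : RepG ω xT (x G) := rep_ev G H _ chk_xw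

theorem x_pow (H : Good ω) : x G ^ 5 = 1 := by
  have h := rep_x G H
  have h1 : x G * (x G * (x G * (x G * x G))) = 1 :=
    (h.mul (h.mul (h.mul (h.mul h)))).ext (repG_one H) chk_x5
  rw [← h1]
  simp only [pow_succ, pow_zero, one_mul, mul_assoc]

theorem x_e (H : Good ω) (i : Fin 4) : x G * e G i = word4 (e G) (im i) * x G :=
  ((rep_x G H).mul (rep_e G H i)).ext ((rep_word G H _).mul (rep_x G H)) (chk_xe i)

/-- the quotient map -/
def q (F : Type) [Field F] (ω : F) : threeJ3 F ω →* J3 F ω := QuotientGroup.mk' (center (threeJ3 F ω))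

theorem word_mem {S : Type*} [Group S] (e : Fin 4 → S) (m : ℕ) : word4 e m ∈ closure (Set.range e) := by
  have h : ∀ (i : Fin 4) (b : Bool), opt (e i) b ∈ closure (Set.range e) := by
    intro i b
    cases b
    · exact one_mem _
    · exact subset_closure ⟨i, rfl⟩
  unfold word4
  exact mul_mem (mul_mem (mul_mem (h _ _) (h _ _)) (h _ _)) (h _ _)

/-- `x e_0 x⁻¹ = e_2` and `e_0 e_2` is not central -/
theorem qx_ne (H : Good ω) : q F ω (x G) * q F ω (e G 0) ≠ q F ω (e G 0) * q F ω (x G) := by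
  intro h
  rw [← map_mul, x_e G H 0, map_mul] at h
  have h1 := mul_right_cancel (b := q F ω (x G)) h
  have h0 : e G 0 * e G 0 = 1 := ((rep_e G H 0).mul (rep_e G H 0)).ext (repG_one H) (chk_sq 0)
  have h2 : word4 (e G) 5 = e G 0 * word4 (e G) (im 0) := by
    have h3 : im 0 = 4 := rfl
    rw [h3]
    simp [word4, opt, Nat.testBit]
  have h4 : q F ω (word4 (e G) 5) = 1 := by
    rw [h2, map_mul, h1, ← map_mul, h0, map_one]
  have h5 : word4 (e G) 5 ∈ center (threeJ3 F ω) := (QuotientGroup.eq_one_iff _).1 h4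
  have h6 := mem_center_iff.1 h5 (G.a (1, 0))
  obtain ⟨z, hz⟩ := chk_ne5
  have r1 := (rA G H (1, 0)).mul (rep_word G H 5)
  have r2 := (rep_word G H 5).mul (rA G H (1, 0))
  rw [h6] at r1
  exact hz (r2.cols_eq H r1 z)

theorem j3_5 [Fintype F] (hF : Fintype.card F = 4) (hω : ω ^ 2 + ω + 1 = 0) : ¬ May 5 (J3 F ω) := by
  have H := good_of_card hF hω
  obtain ⟨G⟩ := exists_gens hF H
  have hsim : IsSimpleGroup (J3 F ω) := Cfsg.Agent.J3.Simple.simple_J3 hF H
  have hx5 : q F ω (x G) ^ 5 = 1 := by rw [← map_pow, x_pow G H, map_one]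
  have hx1 : q F ω (x G) ≠ 1 := by
    intro h
    apply qx_ne G H
    rw [h, one_mul, mul_one]
  refine not_may_of_gens_abelian (fun i => q F ω (e G i)) (l := 2) (m := 3) (r := 5) (by norm_num) (by norm_num)
    Nat.prime_two (multDvd_of_cyclic (by norm_num) (Cfsg.Agent.S2041.result hF ω hω)) (by norm_num) ?_ ?_
    (x := q F ω (x G)) (orderOf_eq_prime hx5 hx1) ?_ (i := (0 : Fin 4)) (qx_ne G H)
  · intro i j
    have h : e G i * e G j = e G j * e G i :=
      ((rep_e G H i).mul (rep_e G H j)).ext ((rep_e G H j).mul (rep_e G H i)) (chk_comm i j)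
    rw [← map_mul, h, map_mul]
  · intro i
    have h : e G i * e G i = 1 := ((rep_e G H i).mul (rep_e G H i)).ext (repG_one H) (chk_sq i)
    rw [sq, ← map_mul, h, map_one]
  · intro i
    have h : q F ω (x G) * q F ω (e G i) * (q F ω (x G))⁻¹ = q F ω (word4 (e G) (im i)) := by
      rw [← map_mul, x_e G H i, map_mul, mul_inv_cancel_right]
    rw [h, map_word4]
    exact word_mem _ _

end

end Cfsg.Agent.H844.Fpf.JThree

namespace Cfsg.Agent.H844.Fpf

open Cfsg Cfsg.Agent Cfsg.Agent.H80.Fpf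

theorem row_j3 {K : Type*} [Group K] [Finite K] (h : Spor.IsoJ3 K) : Row K :=
  row_by (NotCT.Orders.j3 h) 17 19 [2, 3, 5, 17, 19] [3, 5] (by decide +kernel) 7 (by decide +kernel) (by decide)
    (by decide)
    (by
      intro r hr
      simp only [List.mem_cons, List.not_mem_nil, or_false] at hr
      rcases hr with rfl | rfl
      · exact not_may_of_notAb (by norm_num) (by norm_num) (H800.Sp.NotAbRows.j3_3 h)
      · obtain ⟨F, _, _, ω, hF, hω, ⟨e⟩⟩ := h
        exact fun hM => JThree.j3_5 hF hω (hM.of_equiv e))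

end Cfsg.Agent.H844.Fpf
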