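import Cfsg.Agent.H844.Fpf.RowsB
import Cfsg.Agent.H800.Sp.Suz
import Cfsg.Agent.SuzThree.NormElts

/-!
# Sporadic rows of S4228: Suz (helper844)

Commuting independent elements of order 5 (H800); an element of order 11 normalising `3^5` (SuzThree).
-/

set_option autoImplicit false
set_option maxRecDepth 100000

namespace Cfsg.Agent.H844.Fpf.SuzR

open Subgroup Cfsg Cfsg.Agent Cfsg.Agent.H80.Fpf Cfsg.Agent.H844.Fpf
open Cfsg.Spor Cfsg.Agent.SporadicRecognition.SuzPhi Cfsg.Agent.SporadicRecognition.SuzOrder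
open Cfsg.Agent.SporRec.SuzCl hiding el_append
open Cfsg.Agent.H800.Sp Cfsg.Agent.H800.Sp.Suz

theorem neq {u v : List Suz.Gen} (p : ℕ) (hp : p < 1782)
    (h : Nat.beq (wk u.reverse p) (wk v.reverse p) = false) : el u ≠ el v := by
  intro e
  have h1 := (wtr_spec u p hp).1
  rw [e, (wtr_spec v p hp).1, ← wk_reverse, ← wk_reverse] at h1
  rw [h1] at h
  simp at h

theorem el_flat (w : List Suz.Gen) (n : ℕ) : el ((List.replicate n w).flatten) = el w ^ n := by
  induction n with
  | zero => rw [pow_zero]; rfl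
  | succ n ih => rw [List.replicate_succ, List.flatten_cons, el_append, ih, pow_succ']

theorem t0 : (List.range 5).all (fun k => !Nat.beq (wk ((W ++ (X ++ W.reverse))).reverse 1)
   (wk ((List.replicate k X).flatten).reverse 1)) = true := by decide +kernel

theorem hW : (el W)⁻¹ = el W.reverse := by
  have h := geq chk2
  rw [el_append, el_nil] at h
  exact inv_eq_of_mul_eq_one_right h

theorem suz_5 : ¬ May 5 Cfsg.Spor.Suz := by
  have h5 : Fact (Nat.Prime 5) := ⟨Nat.prime_five⟩
  have hfin : Finite Cfsg.Spor.Suz := Nat.finite_of_card_ne_zero (by rw [card_Suz]; norm_num)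
  have ha := orderOf_eq_prime a_pow a_ne
  refine not_may_of_comm (r := 5) (by norm_num) (by norm_num) (a := el X) (b := el W * el X * (el W)⁻¹) ?_ ha ?_ ?_
  · have h := geq chk3
    simp only [el_append] at h
    rw [hW]
    simp only [mul_assoc]
    exact h
  · rw [← ha]
    exact (orderOf_injective (MulAut.conj (el W)).toMonoidHom (MulAut.conj (el W)).injective (el X))
  · refine not_mem_zpowers_of (by norm_num) ha fun k hk => ?_
    have h := List.all_eq_true.1 t0 k (List.mem_range.2 hk)
    have h1 := neq (u := W ++ (X ++ W.reverse)) (v := (List.replicate k X).flatten) 1 (by norm_num) (by simpa using h)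
    rw [el_append, el_append, el_flat, ← hW, ← mul_assoc] at h1
    exact h1

open Cfsg.Agent.SuzThree.NormElts Cfsg.Agent.SuzThree.Elts Cfsg.Agent.SuzThree.Elementary

/-- the word of the element of order 11 -/
def N11 : List Suz.Gen := nw .j5 ++ (nw .j3 ++ (nw .j0 ++ nw .j1))

theorem t1 : eqG ((List.replicate 11 N11).flatten) [] = true := by decide +kernel

theorem n_pow : el N11 ^ 11 = 1 := by
  rw [← el_flat, geq t1, el_nil]

theorem n_mem : el N11 ∈ NA := by
  unfold N11
  rw [el_append, el_append, el_append]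
  exact mul_mem (nw_mem _) (mul_mem (nw_mem _) (mul_mem (nw_mem _) (nw_mem _)))

theorem n_sp (f : Cfsg.Agent.SuzThree.Elts.Ix) : Sp (el N11) f (sg .j5 (sg .j3 (sg .j0 (sg .j1 f)))) := by
  unfold N11
  rw [el_append, el_append, el_append]
  exact sp_mul (sp_mul (sp_mul (act _ _) (act _ _)) (act _ _)) (act _ _)

theorem n_ne : el N11 * x .i0 ≠ x .i0 * el N11 := by
  intro h
  have h1 : Sp (el N11) .i0 .i0 := Or.inl (by rw [h, mul_inv_cancel_right])
  exact absurd (sp_unique h1 (n_sp .i0)) (by decide)

theorem suz_11 [IsSimpleGroup Cfsg.Spor.Suz] : ¬ May 11 Cfsg.Spor.Suz := by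
  have h11 : Fact (Nat.Prime 11) := ⟨by norm_num⟩
  have hfin : Finite Cfsg.Spor.Suz := Nat.finite_of_card_ne_zero (by rw [card_Suz]; norm_num)
  refine not_may_of_act (l := 3) (by norm_num) (by norm_num) Nat.prime_three (by norm_num)
    (good_of_odd Nat.prime_three (by norm_num) (by norm_num) (by norm_num)) (K := A0)
    (fun a => ⟨1, Subtype.ext (by simpa using cube_A0 a.2)⟩) (x := el N11)
    (orderOf_eq_prime n_pow (fun h => n_ne (by rw [h, one_mul, mul_one])))
    (fun k hk => (Subgroup.mem_normalizer_iff.1 n_mem k).1 hk) (x_mem .i0) n_ne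

end Cfsg.Agent.H844.Fpf.SuzR

namespace Cfsg.Agent.H844.Fpf

open Cfsg Cfsg.Agent Cfsg.Agent.H80.Fpf

theorem row_suz {K : Type*} [Group K] [Finite K] [IsSimpleGroup K] (h : Spor.IsoSuz K) : Row K :=
  row_by (NotCT.Orders.suz h) 7 13 [2, 3, 5, 7, 11, 13] [3, 5, 11] (by decide +kernel) 13 (by decide +kernel)
    (by decide) (by decide)
    (by
      intro r hr
      simp only [List.mem_cons, List.not_mem_nil, or_false] at hr
      rcases hr with rfl | rfl | rfl
      · exact not_may_of_notAb (by norm_num) (by norm_num) (H800.Sp.NotAbRows.suz_3 h)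
      · obtain ⟨e⟩ := h
        exact fun hM => SuzR.suz_5 (hM.of_equiv e)
      · obtain ⟨e⟩ := h
        have : IsSimpleGroup Spor.Suz := e.symm.isSimpleGroup
        exact fun hM => SuzR.suz_11 (hM.of_equiv e))

end Cfsg.Agent.H844.Fpf
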